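import Groth.Agent.SubDesc.Glue
import Groth.Agent.SchDesc.FamilyProp
import Groth.Agent.SchDesc.Imm
import Groth.Agent.S6044
/-!
Gluing closed subgroups along an fpqc family.
-/

set_option autoImplicit false
set_option backward.isDefEq.respectTransparency false
set_option backward.isDefEq.respectTransparency.types false
set_option linter.style.haveILetI false
set_option linter.unusedSectionVars false

universe u

open CategoryTheory CategoryTheory.Limits MonoidalCategory CartesianMonoidalCategory MonObj AlgebraicGeometry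

noncomputable section

namespace Groth.Agent.SubDesc

variable {S S' : Scheme.{u}}

theorem mem_fpqc_of_isFpqc (p : S' ⟶ S) [SchDesc.IsFpqc p] :
    Presieve.ofArrows (fun _ : PUnit.{u+1} => S') (fun _ => p) ∈ Scheme.fpqcPrecoverage S := by
  refine ⟨?_, ?_⟩
  · have hq := Scheme.presieve₀_mem_qcPrecoverage_iff.2 (SchDesc.IsFpqc.qcc (p := p))
    rw [PreZeroHypercover.presieve₀_singleton] at hq
    rw [Presieve.ofArrows_pUnit]
    exact hq
  · rw [Presieve.ofArrows_pUnit, ← Presieve.ofArrows_pUnit.{0}]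
    exact (p.cover (P := @Flat) inferInstance).mem₀

theorem mem_zariski (U : S' → S'.Opens) (hU : ∀ x, x ∈ U x) :
    Presieve.ofArrows (fun x : S' => (U x).toScheme) (fun x => (U x).ι) ∈ Scheme.fpqcPrecoverage S' :=
  Scheme.zariskiPrecoverage_le_fpqcPrecoverage _
    (S'.openCoverOfIsOpenCover U (top_le_iff.mp fun x _ => TopologicalSpace.Opens.mem_iSup.2 ⟨x, hU x⟩)).mem₀

/-- An fpqc morphism followed by an open cover. -/
theorem mem_refine (π : S' ⟶ S) [SchDesc.IsFpqc π] (U : S' → S'.Opens) (hU : ∀ x, x ∈ U x) :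
    Presieve.ofArrows (fun x : S' => (U x).toScheme) (fun x => (U x).ι ≫ π) ∈ Scheme.fpqcPrecoverage S := by
  have h := Precoverage.IsStableUnderComposition.comp_mem_coverings (fun _ : PUnit.{u+2} => π) (J := Scheme.fpqcPrecoverage)
    (by
      convert mem_fpqc_of_isFpqc π using 1
      rw [Presieve.ofArrows_pUnit, Presieve.ofArrows_pUnit])
    (σ := fun _ => ULift.{u+1} S') (fun _ x => (U x.down).ι) (fun _ => by
      convert mem_zariski U hU using 1
      refine le_antisymm ?_ ?_ <;> rintro Z g ⟨x⟩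
      · exact Presieve.ofArrows.mk (Y := fun x : S' => (U x).toScheme) x.down
      · exact Presieve.ofArrows.mk (Y := fun x : ULift.{u+1} S' => (U x.down).toScheme) ⟨x⟩)
  convert h using 1
  refine le_antisymm ?_ ?_ <;> rintro Z g ⟨x⟩
  · exact Presieve.ofArrows.mk (Y := fun p : Σ _ : PUnit.{u+2}, ULift.{u+1} S' => (U p.2.down).toScheme) ⟨⟨⟩, ⟨x⟩⟩
  · exact Presieve.ofArrows.mk (Y := fun x : S' => (U x).toScheme) x.2.down

/-- The fibre products of the members of two fpqc families. -/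
theorem mem_pullback {J L : Type u} {U : J → Scheme.{u}} {V : L → Scheme.{u}} (f : ∀ i, U i ⟶ S)
    (hf : Presieve.ofArrows U f ∈ Scheme.fpqcPrecoverage S) (g : ∀ k, V k ⟶ S)
    (hg : Presieve.ofArrows V g ∈ Scheme.fpqcPrecoverage S) :
    Presieve.ofArrows (fun p : J × L => pullback (f p.1) (g p.2)) (fun p => pullback.fst _ _ ≫ f p.1) ∈
      Scheme.fpqcPrecoverage S := by
  have h := Precoverage.IsStableUnderComposition.comp_mem_coverings (fun i : ULift.{u+1} J => f i.down)
    (J := Scheme.fpqcPrecoverage)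
    (by
      convert hf using 1
      refine le_antisymm ?_ ?_ <;> rintro Z g ⟨i⟩
      · exact Presieve.ofArrows.mk (Y := U) i.down
      · exact Presieve.ofArrows.mk (Y := fun i : ULift.{u+1} J => U i.down) ⟨i⟩)
    (σ := fun _ => ULift.{u+1} L) (fun i k => pullback.fst (f i.down) (g k.down)) (fun i => by
      have h' := Precoverage.mem_coverings_of_isPullback g hg (f i.down)
        (fun k => pullback.fst (f i.down) (g k)) (fun k => pullback.snd _ _)
        (fun k => IsPullback.of_hasPullback _ _)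
      convert h' using 1
      refine le_antisymm ?_ ?_ <;> rintro Z g' ⟨k⟩
      · exact Presieve.ofArrows.mk (Y := fun k => pullback (f i.down) (g k)) k.down
      · exact Presieve.ofArrows.mk (Y := fun k : ULift.{u+1} L => pullback (f i.down) (g k.down)) ⟨k⟩)
  convert h using 1
  refine le_antisymm ?_ ?_ <;> rintro Z g' ⟨x⟩
  · exact Presieve.ofArrows.mk
      (Y := fun p : Σ _ : ULift.{u+1} J, ULift.{u+1} L => pullback (f p.1.down) (g p.2.down)) ⟨⟨x.1⟩, ⟨x.2⟩⟩
  · exact Presieve.ofArrows.mk (Y := fun p : J × L => pullback (f p.1) (g p.2)) (x.1.down, x.2.down)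

/-- A monomorphism which is closed under the operations is a subgroup. -/
theorem exists_grpObj_of_closed {H G : Over S} [GrpObj G] (j : H ⟶ G) [Mono j]
    (hmul : ∀ {T : Over S} (x y : T ⟶ H), ∃ z : T ⟶ H, z ≫ j = (x ≫ j) * (y ≫ j))
    (hinv : ∀ {T : Over S} (x : T ⟶ H), ∃ z : T ⟶ H, z ≫ j = (x ≫ j)⁻¹)
    (hone : ∃ e : 𝟙_ (Over S) ⟶ H, e ≫ j = 1) : ∃ _ : GrpObj H, IsMonHom j := by
  obtain ⟨m, hm⟩ := hmul (fst H H) (snd H H)
  obtain ⟨ν, hν⟩ := hinv (𝟙 H)
  obtain ⟨e₀, he₀⟩ := hone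
  rw [Category.id_comp] at hν
  have hmT : ∀ {T : Over S} (x y : T ⟶ H), lift x y ≫ m ≫ j = (x ≫ j) * (y ≫ j) := fun {T} x y => by
    rw [hm, MonObj.comp_mul, lift_fst_assoc, lift_snd_assoc]
  have heT : ∀ {T : Over S} (f : T ⟶ 𝟙_ (Over S)), f ≫ e₀ ≫ j = 1 := fun {T} f => by
    rw [he₀, MonObj.comp_one]
  let M : MonObj H :=
    { one := e₀
      mul := m
      one_mul := by
        rw [← cancel_mono j, Category.assoc]
        rw [show e₀ ▷ H = lift (fst _ _ ≫ e₀) (snd _ _) by ext <;> simp, hmT, Category.assoc, heT, _root_.one_mul]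
        simp only [leftUnitor_hom]
      mul_one := by
        rw [← cancel_mono j, Category.assoc]
        rw [show H ◁ e₀ = lift (fst _ _) (snd _ _ ≫ e₀) by ext <;> simp, hmT, Category.assoc, heT, _root_.mul_one]
        simp only [rightUnitor_hom]
      mul_assoc := by
        rw [← cancel_mono j, Category.assoc, Category.assoc]
        rw [show m ▷ H = lift (fst _ _ ≫ m) (snd _ _) by ext <;> simp, hmT,
          show H ◁ m = lift (fst _ _) (snd _ _ ≫ m) by ext <;> simp, Category.assoc (lift _ _), hmT]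
        simp only [MonObj.comp_mul, Category.assoc, hm, _root_.mul_assoc]
        simp }
  let G' : GrpObj H :=
    { toMonObj := M
      inv := ν
      left_inv := by
        rw [← cancel_mono j]
        change (lift ν (𝟙 H) ≫ m) ≫ j = (toUnit H ≫ e₀) ≫ j
        rw [Category.assoc, hmT, hν, Category.id_comp, _root_.inv_mul_cancel, Category.assoc, heT]
      right_inv := by
        rw [← cancel_mono j]
        change (lift (𝟙 H) ν ≫ m) ≫ j = (toUnit H ≫ e₀) ≫ j
        rw [Category.assoc, hmT, hν, Category.id_comp, _root_.mul_inv_cancel, Category.assoc, heT] }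
  letI := G'
  refine ⟨G', ?_, ?_⟩
  · show e₀ ≫ j = η[G]
    rw [he₀, MonObj.one_eq_one]
  · change m ≫ j = _
    rw [hm]
    change lift (fst H H ≫ j) (snd H H ≫ j) ≫ μ[G] = _
    congr 1

variable {J : Type u} {U : J → Scheme.{u}} (f : ∀ i, U i ⟶ S)

/-- Factorisation through a monomorphism is local for fpqc families. -/
theorem exists_factor_fam (hf : Presieve.ofArrows U f ∈ Scheme.fpqcPrecoverage S) {X H G : Over S} (j : H ⟶ G)
    [Mono j.left] (g : X ⟶ G)
    (hg : ∀ i, ∃ k : Red.bc (f i) X ⟶ Red.bc (f i) H, k ≫ (Over.pullback (f i)).map j = (Over.pullback (f i)).map g) :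
    ∃ h : X ⟶ H, h ≫ j = g := by
  let c : ∀ i, pullback X.hom (f i) ⟶ X.left := fun i => pullback.fst _ _
  haveI : SchDesc.IsFpqc (Sigma.desc c) := SchDesc.isFpqc_sigmaDesc
    (Precoverage.mem_coverings_of_isPullback f hf X.hom c (fun i => pullback.snd _ _)
      (fun i => IsPullback.of_hasPullback _ _))
  choose k hk using hg
  let w : (∐ fun i => pullback X.hom (f i)) ⟶ H.left := Sigma.desc fun i => (k i).left ≫ pullback.fst H.hom (f i)
  have hw : w ≫ j.left = Sigma.desc c ≫ g.left := Sigma.hom_ext _ _ fun i => by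
    simp only [w, c, Sigma.ι_desc_assoc, Category.assoc]
    rw [← ActBC.pullback_map_left_fst (f i) j, ← Category.assoc, ← Over.comp_left, hk, ActBC.pullback_map_left_fst]
  let z : X.left ⟶ H.left := EffectiveEpi.desc (Sigma.desc c) w (fun a b e => (cancel_mono j.left).1 (by
    rw [Category.assoc, Category.assoc, hw, reassoc_of% e]))
  have hz : z ≫ j.left = g.left := (cancel_epi (Sigma.desc c)).1 (by rw [EffectiveEpi.fac_assoc, hw])
  exact ⟨Over.homMk z (by rw [← Over.w j, ← Category.assoc, hz, Over.w g]), Over.OverMorphism.ext hz⟩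

variable {G : Over S}

/-- Compatible closed subschemes glue. -/
theorem exists_sub (hf : Presieve.ofArrows U f ∈ Scheme.fpqcPrecoverage S) (H : ∀ i, Over (U i))
    (j : ∀ i, H i ⟶ Red.bc (f i) G) (hj : ∀ i, IsClosedImmersion (j i).left)
    (hmove : ∀ {T : Scheme.{u}} {i k : J} (a : T ⟶ U i) (b : T ⟶ U k), a ≫ f i = b ≫ f k →
      ∀ v : T ⟶ (H i).left, v ≫ (H i).hom = a → ∃ w : T ⟶ (H k).left, w ≫ (H k).hom = b ∧
        w ≫ (j k).left ≫ pullback.fst G.hom (f k) = v ≫ (j i).left ≫ pullback.fst G.hom (f i)) :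
    ∃ (K : Over S) (m : K ⟶ G), Mono m.left ∧
      ∀ i, ∃ φ : Red.bc (f i) K ≅ H i, φ.hom ≫ j i = (Over.pullback (f i)).map m := by
  let X : J → Scheme.{u} := fun i => pullback G.hom (f i)
  let c : ∀ i, X i ⟶ G.left := fun i => pullback.fst _ _
  have hc : Presieve.ofArrows X c ∈ Scheme.fpqcPrecoverage G.left :=
    Precoverage.mem_coverings_of_isPullback f hf G.hom c (fun i => pullback.snd _ _)
      (fun i => IsPullback.of_hasPullback _ _)
  have huniq : ∀ {T : Scheme.{u}} {i : J} {x : T ⟶ X i} (v v' : _root_.Desc.Lifts (Over.mk (j i).left) x), v = v' :=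
    fun {T} {i} {x} v v' => Subtype.ext (by
      haveI := hj i
      exact (cancel_mono (j i).left).1 (v.2.trans v'.2.symm))
  have hex : ∀ {T : Scheme.{u}} {i k : J} (x₀ : T ⟶ X i) (x₁ : T ⟶ X k), x₀ ≫ c i = x₁ ≫ c k →
      _root_.Desc.Lifts (Over.mk (j i).left) x₀ → Nonempty (_root_.Desc.Lifts (Over.mk (j k).left) x₁) := by
    intro T i k x₀ x₁ h v
    have hv : v.1 ≫ (j i).left = x₀ := v.2
    have e : (x₀ ≫ pullback.snd _ _) ≫ f i = (x₁ ≫ pullback.snd _ _) ≫ f k := by
      rw [Category.assoc, Category.assoc, ← pullback.condition, ← pullback.condition, ← Category.assoc,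
        ← Category.assoc]
      exact congrArg (· ≫ G.hom) h
    obtain ⟨w, hw₁, hw₂⟩ := hmove _ _ e v.1 ((congrArg (v.1 ≫ ·) (Over.w (j i)).symm).trans ((Category.assoc _ _ _).symm.trans (congrArg (· ≫ pullback.snd _ _) hv)))
    refine ⟨⟨w, ?_⟩⟩
    show w ≫ (j k).left = x₁
    apply pullback.hom_ext
    · rw [Category.assoc, hw₂, ← Category.assoc v.1, hv]
      exact h
    · rw [Category.assoc]
      exact (congrArg (w ≫ ·) (Over.w (j k))).trans hw₁
  let D : _root_.Desc.SchDDFam c :=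
    { obj := fun i => Over.mk (j i).left
      φ := fun T i k x₀ x₁ h =>
        { toFun := fun v => (hex x₀ x₁ h v).some
          invFun := fun v => (hex x₁ x₀ h.symm v).some
          left_inv := fun v => huniq _ _
          right_inv := fun v => huniq _ _ }
      φ_natural := fun T T' g i k x₀ x₁ h y₀ y₁ hy₀ hy₁ h' v v' e =>
        congrArg Subtype.val (huniq ((hex y₀ y₁ h' v').some)
          ⟨g ≫ ((hex x₀ x₁ h v).some).1, by rw [Category.assoc, ((hex x₀ x₁ h v).some).2, hy₁]⟩)
      φ_self := fun T i x v => huniq _ _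
      φ_comp := fun T i k l x₀ x₁ x₂ h h' v => huniq _ _ }
  obtain ⟨V, ⟨e⟩⟩ := (S6044.result c hc D hj : D.IsEffective)
  let a : ∀ i, pullback (c i) V.hom ⟶ (H i).left := fun i => (e.hom.hom i).left
  have ha : ∀ i, a i ≫ (j i).left = pullback.fst (c i) V.hom := fun i => Over.w (e.hom.hom i)
  have haiso : ∀ i, IsIso (a i) := fun i => ⟨(e.inv.hom i).left,
    congrArg CommaMorphism.left (congrFun (congrArg _root_.Desc.SchDDFam.Hom.hom e.hom_inv_id) i),
    congrArg CommaMorphism.left (congrFun (congrArg _root_.Desc.SchDDFam.Hom.hom e.inv_hom_id) i)⟩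
  haveI hmono : Mono V.hom := ⟨fun {Y} x y hxy => by
    let d : ∀ i, pullback (x ≫ V.hom) (c i) ⟶ Y := fun i => pullback.fst _ _
    haveI : SchDesc.IsFpqc (Sigma.desc d) := SchDesc.isFpqc_sigmaDesc
      (Precoverage.mem_coverings_of_isPullback c hc (x ≫ V.hom) d (fun i => pullback.snd _ _)
        (fun i => IsPullback.of_hasPullback _ _))
    refine (cancel_epi (Sigma.desc d)).1 (Sigma.hom_ext _ _ fun i => ?_)
    rw [Sigma.ι_desc_assoc, Sigma.ι_desc_assoc]
    haveI := hj i
    haveI := haiso i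
    haveI : Mono (pullback.fst (c i) V.hom) := by rw [← ha i]; infer_instance
    let l₁ : pullback (x ≫ V.hom) (c i) ⟶ pullback (c i) V.hom :=
      pullback.lift (pullback.snd _ _) (pullback.fst _ _ ≫ x) (by rw [Category.assoc, pullback.condition])
    let l₂ : pullback (x ≫ V.hom) (c i) ⟶ pullback (c i) V.hom :=
      pullback.lift (pullback.snd _ _) (pullback.fst _ _ ≫ y) (by rw [Category.assoc, ← hxy, pullback.condition])
    have hl : l₁ = l₂ := (cancel_mono (pullback.fst (c i) V.hom)).1 (by simp [l₁, l₂])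
    have := congrArg (· ≫ pullback.snd (c i) V.hom) hl
    simpa [l₁, l₂, d] using this⟩
  let K : Over S := Over.mk (V.hom ≫ G.hom)
  let m : K ⟶ G := Over.homMk V.hom rfl
  refine ⟨K, m, hmono, fun i => ?_⟩
  haveI := haiso i
  have sq : IsPullback (pullback.snd (c i) V.hom) (pullback.fst (c i) V.hom ≫ pullback.snd G.hom (f i))
      (V.hom ≫ G.hom) (f i) :=
    (IsPullback.of_hasPullback (c i) V.hom).flip.paste_vert (IsPullback.of_hasPullback G.hom (f i))
  let φ : Red.bc (f i) K ≅ H i := Over.isoMk (sq.isoPullback.symm ≪≫ asIso (a i)) (by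
    show (sq.isoPullback.inv ≫ a i) ≫ (H i).hom = pullback.snd (V.hom ≫ G.hom) (f i)
    rw [Category.assoc, show (H i).hom = (j i).left ≫ pullback.snd G.hom (f i) from (Over.w (j i)).symm,
      reassoc_of% (ha i), IsPullback.isoPullback_inv_snd])
  refine ⟨φ, Over.OverMorphism.ext (pullback.hom_ext ?_ ?_)⟩
  · rw [ActBC.pullback_map_left_fst]
    show ((sq.isoPullback.inv ≫ a i) ≫ (j i).left) ≫ c i = pullback.fst (V.hom ≫ G.hom) (f i) ≫ V.hom
    rw [Category.assoc, Category.assoc, reassoc_of% (ha i), pullback.condition, IsPullback.isoPullback_inv_fst_assoc]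
  · exact (Over.w (φ.hom ≫ j i)).trans (Over.w ((Over.pullback (f i)).map m)).symm

/-- Compatible closed subgroups glue. -/
theorem exists_subgroup [GrpObj G] (hf : Presieve.ofArrows U f ∈ Scheme.fpqcPrecoverage S) (H : ∀ i, Over (U i))
    [∀ i, GrpObj (H i)] (j : ∀ i, H i ⟶ Red.bc (f i) G) (hjm : ∀ i, IsMonHom (j i))
    (hj : ∀ i, IsClosedImmersion (j i).left)
    (hmove : ∀ {T : Scheme.{u}} {i k : J} (a : T ⟶ U i) (b : T ⟶ U k), a ≫ f i = b ≫ f k →
      ∀ v : T ⟶ (H i).left, v ≫ (H i).hom = a → ∃ w : T ⟶ (H k).left, w ≫ (H k).hom = b ∧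
        w ≫ (j k).left ≫ pullback.fst G.hom (f k) = v ≫ (j i).left ≫ pullback.fst G.hom (f i)) :
    ∃ (K : Over S) (_ : GrpObj K) (m : K ⟶ G), IsMonHom m ∧ Mono m.left ∧
      ∀ i, ∃ e : Grp.mk (Red.bc (f i) K) ≅ Grp.mk (H i), e.hom.hom.hom ≫ j i = (Over.pullback (f i)).map m := by
  obtain ⟨K, m, hm, hφ⟩ := exists_sub f hf H j hj hmove
  choose φ hφ using hφ
  haveI : Mono m := Over.mono_of_mono_left m
  have hmap : ∀ (i) {T : Over S} (x : T ⟶ K),
      (Over.pullback (f i)).map (x ≫ m) = ((Over.pullback (f i)).map x ≫ (φ i).hom) ≫ j i := fun i {T} x => by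
    rw [Functor.map_comp, Category.assoc, hφ]
  haveI := hjm
  obtain ⟨iK, hmm⟩ := exists_grpObj_of_closed m
    (fun {T} x y => exists_factor_fam f hf m _ fun i =>
      ⟨(((Over.pullback (f i)).map x ≫ (φ i).hom) * ((Over.pullback (f i)).map y ≫ (φ i).hom)) ≫ (φ i).inv, by
        rw [Category.assoc, ← hφ, Iso.inv_hom_id_assoc, MonObj.mul_comp, Functor.map_mul, hmap, hmap]⟩)
    (fun {T} x => exists_factor_fam f hf m _ fun i =>
      ⟨((Over.pullback (f i)).map x ≫ (φ i).hom)⁻¹ ≫ (φ i).inv, by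
        rw [Category.assoc, ← hφ, Iso.inv_hom_id_assoc, GrpObj.inv_comp, Functor.map_inv', hmap]⟩)
    (exists_factor_fam f hf m (1 : 𝟙_ (Over S) ⟶ G) fun i =>
      ⟨(1 : (Over.pullback (f i)).obj (𝟙_ (Over S)) ⟶ H i) ≫ (φ i).inv, by
        rw [Category.assoc, ← hφ, Iso.inv_hom_id_assoc, MonObj.one_comp, Functor.map_one]⟩)
  letI := iK
  haveI := hmm
  refine ⟨K, iK, m, hmm, hm, fun i => ?_⟩
  haveI : Mono (j i).left := by haveI := hj i; infer_instance
  haveI : Mono (j i) := Over.mono_of_mono_left _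
  haveI : IsMonHom (φ i).hom := CommGrpAbLib.isMonHom_of_mono (j i) (φ i).hom ((Over.pullback (f i)).map m) (hφ i)
  exact ⟨Grp.mkIso' (φ i), hφ i⟩

end Groth.Agent.SubDesc
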