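import Groth.Agent.HomDesc.BaseChange
import Groth.Agent.SchDesc.Cover
import Groth.Agent.CommGrpAbLib.Basic
/-!
Subgroups and their properties descend along fpqc coverings.
-/

set_option autoImplicit false
set_option backward.isDefEq.respectTransparency false
set_option backward.isDefEq.respectTransparency.types false
set_option linter.style.haveILetI false

universe u

open CategoryTheory CategoryTheory.Limits MonoidalCategory CartesianMonoidalCategory MonObj AlgebraicGeometry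

noncomputable section

namespace Groth.Agent.SubDesc

variable {S S' : Scheme.{u}}

theorem isFpqc_of_hcov (π : S' ⟶ S) [Flat π] [Surjective π]
    (hcov : ∀ V : S.Opens, IsAffineOpen V → ∃ W : S'.Opens, IsCompact (W : Set S') ∧ π.base '' (W : Set S') = (V : Set S)) :
    SchDesc.IsFpqc π :=
  ⟨‹_›, ‹_›, ⟨fun {V} hV => by
    obtain ⟨W, hWc, hW⟩ := hcov V hV
    exact ⟨Set.univ, Set.finite_univ, fun _ _ => W, fun _ _ => hWc, by
      ext y
      simp only [Set.mem_iUnion]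
      exact ⟨fun ⟨_, _, hy⟩ => hW.subset hy, fun hy => ⟨PUnit.unit, trivial, hW.superset hy⟩⟩⟩⟩⟩

/-- Factorisation through a monomorphism descends. -/
theorem exists_factor {π : S' ⟶ S} [SchDesc.IsFpqc π] {X H G : Over S} (j : H ⟶ G) [Mono j.left] (g : X ⟶ G)
    (hg : ∃ k : Red.bc π X ⟶ Red.bc π H, k ≫ (Over.pullback π).map j = (Over.pullback π).map g) :
    ∃ h : X ⟶ H, h ≫ j = g := by
  obtain ⟨k, hk⟩ := hg
  let c := pullback.fst X.hom π
  haveI : SchDesc.IsFpqc c := SchDesc.IsFpqc.of_isPullback (IsPullback.of_hasPullback X.hom π).flip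
  obtain ⟨w, hw⟩ : ∃ w : pullback X.hom π ⟶ H.left, w ≫ j.left = c ≫ g.left :=
    ⟨k.left ≫ pullback.fst H.hom π, by
      rw [Category.assoc, ← ActBC.pullback_map_left_fst π j, ← Category.assoc, ← Over.comp_left, hk,
        ActBC.pullback_map_left_fst]⟩
  let z : X.left ⟶ H.left := EffectiveEpi.desc c w (fun a b e => (cancel_mono j.left).1 (by
    rw [Category.assoc, Category.assoc, hw, reassoc_of% e]))
  have hz : z ≫ j.left = g.left := (cancel_epi c).1 (by rw [EffectiveEpi.fac_assoc, hw])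
  exact ⟨Over.homMk z (by rw [← Over.w j, ← Category.assoc, hz, Over.w g]), Over.OverMorphism.ext hz⟩

/-- Subobjects which agree after base change agree. -/
theorem exists_iso {π : S' ⟶ S} [SchDesc.IsFpqc π] {H₁ H₂ G : Over S} (j₁ : H₁ ⟶ G) (j₂ : H₂ ⟶ G)
    [Mono j₁.left] [Mono j₂.left] {H' : Over S'} {j' : H' ⟶ Red.bc π G} (φ₁ : Red.bc π H₁ ≅ H')
    (h₁ : φ₁.hom ≫ j' = (Over.pullback π).map j₁) (φ₂ : Red.bc π H₂ ≅ H')
    (h₂ : φ₂.hom ≫ j' = (Over.pullback π).map j₂) : ∃ ψ : H₁ ≅ H₂, ψ.hom ≫ j₂ = j₁ := by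
  obtain ⟨a, ha⟩ := exists_factor (π := π) j₂ j₁ ⟨φ₁.hom ≫ φ₂.inv, by rw [← h₂, ← h₁]; simp⟩
  obtain ⟨b, hb⟩ := exists_factor (π := π) j₁ j₂ ⟨φ₂.hom ≫ φ₁.inv, by rw [← h₂, ← h₁]; simp⟩
  haveI : Mono j₁ := Over.mono_of_mono_left j₁
  haveI : Mono j₂ := Over.mono_of_mono_left j₂
  exact ⟨⟨a, b, (cancel_mono j₁).1 (by rw [Category.assoc, hb, ha, Category.id_comp]),
    (cancel_mono j₂).1 (by rw [Category.assoc, ha, hb, Category.id_comp])⟩, ha⟩

/-- A monomorphism which becomes a subgroup after base change is a subgroup. -/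
theorem exists_grpObj {π : S' ⟶ S} [SchDesc.IsFpqc π] {H G : Over S} [GrpObj G] (j : H ⟶ G) [Mono j.left]
    {H' : Over S'} [GrpObj H'] (j' : H' ⟶ Red.bc π G) [IsMonHom j'] [Mono j'] (φ : Red.bc π H ≅ H')
    (hφ : φ.hom ≫ j' = (Over.pullback π).map j) :
    ∃ _ : GrpObj H, IsMonHom j ∧ IsMonHom φ.hom := by
  haveI : Mono j := Over.mono_of_mono_left j
  let F := Over.pullback π
  have hmap : ∀ {T : Over S} (x : T ⟶ H), F.map (x ≫ j) = (F.map x ≫ φ.hom) ≫ j' := fun x => by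
    rw [Functor.map_comp, Category.assoc, hφ]
  have hmul : ∀ {T : Over S} (x y : T ⟶ H), ∃ z : T ⟶ H, z ≫ j = (x ≫ j) * (y ≫ j) := fun {T} x y =>
    exists_factor (π := π) j _ ⟨((F.map x ≫ φ.hom) * (F.map y ≫ φ.hom)) ≫ φ.inv, by
      rw [Category.assoc, ← hφ, Iso.inv_hom_id_assoc, MonObj.mul_comp, Functor.map_mul, hmap, hmap]⟩
  have hinv : ∀ {T : Over S} (x : T ⟶ H), ∃ z : T ⟶ H, z ≫ j = (x ≫ j)⁻¹ := fun {T} x =>
    exists_factor (π := π) j _ ⟨(F.map x ≫ φ.hom)⁻¹ ≫ φ.inv, by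
      rw [Category.assoc, ← hφ, Iso.inv_hom_id_assoc, GrpObj.inv_comp, Functor.map_inv', hmap]⟩
  obtain ⟨m, hm⟩ := hmul (fst H H) (snd H H)
  obtain ⟨ν, hν⟩ := hinv (𝟙 H)
  obtain ⟨e₀, he₀⟩ := exists_factor (π := π) j (1 : 𝟙_ (Over S) ⟶ G)
    ⟨(1 : F.obj (𝟙_ (Over S)) ⟶ H') ≫ φ.inv, by
      rw [Category.assoc, ← hφ, Iso.inv_hom_id_assoc, MonObj.one_comp, Functor.map_one]⟩
  rw [Category.id_comp] at hν
  have hmT : ∀ {T : Over S} (x y : T ⟶ H), lift x y ≫ m ≫ j = (x ≫ j) * (y ≫ j) := fun {T} x y => by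
    rw [hm, MonObj.comp_mul, lift_fst_assoc, lift_snd_assoc]
  have heT : ∀ {T : Over S} (f : T ⟶ 𝟙_ (Over S)), f ≫ e₀ ≫ j = 1 := fun {T} f => by
    rw [he₀, MonObj.comp_one]
  let M : MonObj H :=
    { one := e₀
      mul := m
      one_mul := by
        rw [← cancel_mono j, Category.assoc]
        rw [show e₀ ▷ H = lift (fst _ _ ≫ e₀) (snd _ _) by ext <;> simp, hmT, Category.assoc, heT, _root_.one_mul]
        simp only [leftUnitor_hom]
      mul_one := by
        rw [← cancel_mono j, Category.assoc]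
        rw [show H ◁ e₀ = lift (fst _ _) (snd _ _ ≫ e₀) by ext <;> simp, hmT, Category.assoc, heT, _root_.mul_one]
        simp only [rightUnitor_hom]
      mul_assoc := by
        rw [← cancel_mono j, Category.assoc, Category.assoc]
        rw [show m ▷ H = lift (fst _ _ ≫ m) (snd _ _) by ext <;> simp, hmT,
          show H ◁ m = lift (fst _ _) (snd _ _ ≫ m) by ext <;> simp, Category.assoc (lift _ _), hmT]
        simp only [MonObj.comp_mul, Category.assoc, hm, _root_.mul_assoc]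
        simp }
  let G' : GrpObj H :=
    { toMonObj := M
      inv := ν
      left_inv := by
        rw [← cancel_mono j]
        change (lift ν (𝟙 H) ≫ m) ≫ j = (toUnit H ≫ e₀) ≫ j
        rw [Category.assoc, hmT, hν, Category.id_comp, _root_.inv_mul_cancel, Category.assoc, heT]
      right_inv := by
        rw [← cancel_mono j]
        change (lift (𝟙 H) ν ≫ m) ≫ j = (toUnit H ≫ e₀) ≫ j
        rw [Category.assoc, hmT, hν, Category.id_comp, _root_.mul_inv_cancel, Category.assoc, heT] }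
  letI := G'
  haveI : IsMonHom j := by
    constructor
    · show e₀ ≫ j = η[G]
      rw [he₀, MonObj.one_eq_one]
    · change m ≫ j = _
      rw [hm]
      change lift (fst H H ≫ j) (snd H H ≫ j) ≫ μ[G] = _
      congr 1
  haveI : IsMonHom (φ.hom ≫ j') := by rw [hφ]; infer_instance
  refine ⟨G', ‹_›, ?_⟩
  exact CommGrpAbLib.isMonHom_of_mono j' φ.hom ((Over.pullback π).map j) hφ

/-- Being of multiplicative type descends along fpqc coverings. -/
theorem isMultTypeFT_of_bc (π : S' ⟶ S) [Flat π] [Surjective π]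
    (hcov : ∀ V : S.Opens, IsAffineOpen V → ∃ W : S'.Opens, IsCompact (W : Set S') ∧ π.base '' (W : Set S') = (V : Set S))
    {H : Over S} [GrpObj H] {H' : Over S'} [GrpObj H'] (e : Grp.mk (Red.bc π H) ≅ Grp.mk H')
    (hH' : SGA3x.IsMultTypeFT H') : SGA3x.IsMultTypeFT H := by
  obtain ⟨S'', f, hflat, hsurj, hqc, hloc⟩ := hH'
  refine ⟨S'', f ≫ π, inferInstance, inferInstance, fun V hV => ?_, fun x => ?_⟩
  · obtain ⟨W, hWc, hW⟩ := hcov V hV
    obtain ⟨s, hs, hWs⟩ := (isCompact_iff_finite_and_eq_biUnion_affineOpens.1 hWc)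
    choose O hO hOW using fun A : S'.affineOpens => hqc A.1 A.2
    refine ⟨⨆ A ∈ s, O A, ?_, ?_⟩
    · simp only [TopologicalSpace.Opens.coe_iSup]
      exact hs.isCompact_biUnion fun A _ => hO A
    · rw [← hW, hWs]
      simp only [TopologicalSpace.Opens.coe_iSup, Set.image_iUnion, TopCat.coe_comp, Scheme.Hom.comp_base,
        Set.image_comp, hOW]
  · obtain ⟨U, hxU, M, iM, hM, ⟨e'⟩⟩ := hloc x
    letI := iM
    exact ⟨U, hxU, M, iM, hM, ⟨(HomDesc.bcGrpIso (U.ι ≫ f) π (Category.assoc _ _ _) H).symm ≪≫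
      (Over.pullback (U.ι ≫ f)).mapGrp.mapIso e ≪≫ e'⟩⟩

end Groth.Agent.SubDesc
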