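import Groth.Agent.SubDesc.Glue
import Groth.Agent.HomDesc.Main
import Groth.Agent.MultKer.Locus
import Groth.Agent.SchDesc.Effective
import Groth.Agent.SchDesc.Local
import Groth.Agent.SchDesc.QAff
import Groth.Agent.SchDesc.TorsorDesc
import Groth.Agent.ASp.ImmDescQC
/-!
Central subgroups of multiplicative type descend along coverings with connected geometric fibres.
-/

set_option autoImplicit false
set_option backward.isDefEq.respectTransparency false
set_option backward.isDefEq.respectTransparency.types false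
set_option linter.style.haveILetI false

universe u

open CategoryTheory CategoryTheory.Limits MonoidalCategory CartesianMonoidalCategory MonObj AlgebraicGeometry

noncomputable section

namespace Groth.Agent.SubDesc

open FixedSmooth

variable {S S' : Scheme.{u}} {G : Over S} [GrpObj G] {π : S' ⟶ S} {H' : Over S'} [GrpObj H']

/-- The inclusion of the pullback of the subgroup along a morphism to the covering. -/
def incl (j' : H' ⟶ Red.bc π G) {T : Scheme.{u}} {c : T ⟶ S} (p : T ⟶ S') (h : p ≫ π = c) :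
    Red.bc p H' ⟶ Red.bc c G :=
  (Over.pullback p).map j' ≫ (ActBC.bcCompIso p π G h).hom

theorem incl_fst (j' : H' ⟶ Red.bc π G) {T : Scheme.{u}} {c : T ⟶ S} (p : T ⟶ S') (h : p ≫ π = c) :
    (incl j' p h).left ≫ pullback.fst G.hom c = pullback.fst H'.hom p ≫ j'.left ≫ pullback.fst G.hom π := by
  show (((Over.pullback p).map j').left ≫ (ActBC.bcCompIso p π G h).hom.left) ≫ _ = _
  rw [Category.assoc, ActBC.bcCompIso_hom_left_fst, ActBC.pullback_map_left_fst_assoc]

theorem isMonHom_incl (j' : H' ⟶ Red.bc π G) [IsMonHom j'] {T : Scheme.{u}} {c : T ⟶ S} (p : T ⟶ S')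
    (h : p ≫ π = c) : IsMonHom (incl j' p h) := by
  haveI := HomDesc.isMonHom_bcCompIso p π h G
  exact inferInstanceAs (IsMonHom ((Over.pullback p).map j' ≫ (ActBC.bcCompIso p π G h).hom))

theorem mono_incl (j' : H' ⟶ Red.bc π G) [Mono j'] {T : Scheme.{u}} {c : T ⟶ S} (p : T ⟶ S')
    (h : p ≫ π = c) : Mono (incl j' p h) := by
  haveI : Mono ((Over.pullback p).map j') := Functor.map_mono _ _
  exact mono_comp _ _

theorem incl_central (j' : H' ⟶ Red.bc π G) [IsMonHom j']
    (hc : ∀ (X : Over S') (g : X ⟶ Red.bc π G) (h : X ⟶ H'), g * (h ≫ j') = (h ≫ j') * g)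
    {T : Scheme.{u}} {c : T ⟶ S} (p : T ⟶ S') (h : p ≫ π = c) (X : Over T) (g : X ⟶ Red.bc c G)
    (b : X ⟶ Red.bc p H') : g * (b ≫ incl j' p h) = (b ≫ incl j' p h) * g := by
  haveI := HomDesc.isMonHom_bcCompIso p π h G
  let α := ActBC.bcCompIso p π G h
  have key : (g ≫ α.inv) * (b ≫ (Over.pullback p).map j') = (b ≫ (Over.pullback p).map j') * (g ≫ α.inv) := by
    apply (adjEquiv p (Red.bc π G) X).symm.injective
    have e : (adjEquiv p (Red.bc π G) X).symm (b ≫ (Over.pullback p).map j') =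
        (adjEquiv p H' X).symm b ≫ j' := (Over.mapPullbackAdj p).homEquiv_naturality_right_symm _ _
    rw [map_mul, map_mul, e]
    exact hc _ _ _
  have h2 := congrArg (· ≫ α.hom) key
  simp only [MonObj.mul_comp, Category.assoc, Iso.inv_hom_id, Category.comp_id] at h2
  exact h2

/-- Over a point where the two projections agree the two pullbacks agree. -/
theorem le_incl_of_eq (j' : H' ⟶ Red.bc π G) {T : Scheme.{u}} {c : T ⟶ S} (p₀ p₁ : T ⟶ S')
    (h₀ : p₀ ≫ π = c) (h₁ : p₁ ≫ π = c) {Y : Scheme.{u}} (t : Y ⟶ T) (ht : t ≫ p₀ = t ≫ p₁) :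
    MultKer.Le (incl j' p₀ h₀) (incl j' p₁ h₁) t := by
  intro Z q x
  have hx : x.left ≫ pullback.snd H'.hom p₀ = Z.hom := Over.w x
  have hz : Z.hom = q.left ≫ t := (Over.w q).symm
  refine ⟨Over.homMk (pullback.lift (x.left ≫ pullback.fst H'.hom p₀) Z.hom (by
    rw [Category.assoc, pullback.condition, reassoc_of% hx, hz, Category.assoc, Category.assoc, ht]))
    (pullback.lift_snd _ _ _), ?_⟩
  ext
  apply pullback.hom_ext
  · show (pullback.lift _ _ _ ≫ (incl j' p₁ h₁).left) ≫ _ = (x.left ≫ (incl j' p₀ h₀).left) ≫ _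
    refine Eq.trans (Category.assoc _ _ _) (Eq.trans ?_ (Category.assoc _ _ _).symm)
    rw [incl_fst, incl_fst]
    exact (pullback.lift_fst_assoc _ _ _ _).trans (Category.assoc _ _ _)
  · exact (Over.w (_ ≫ incl j' p₁ h₁)).trans (Over.w (x ≫ incl j' p₀ h₀)).symm

theorem exists_of_le (j' : H' ⟶ Red.bc π G) {T : Scheme.{u}} {c : T ⟶ S} (p₀ p₁ : T ⟶ S')
    (h₀ : p₀ ≫ π = c) (h₁ : p₁ ≫ π = c) {V : Scheme.{u}} {t : V ⟶ T}
    (hLe : MultKer.Le (incl j' p₀ h₀) (incl j' p₁ h₁) t)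
    {Y : Scheme.{u}} (z : Y ⟶ T) (k : Y ⟶ V) (hk : k ≫ t = z) (v : Y ⟶ H'.left) (hv : v ≫ H'.hom = z ≫ p₀) :
    ∃ w : Y ⟶ H'.left, w ≫ H'.hom = z ≫ p₁ ∧
      w ≫ j'.left ≫ pullback.fst G.hom π = v ≫ j'.left ≫ pullback.fst G.hom π := by
  obtain ⟨r, hr⟩ := hLe (Over.mk z) (Over.homMk k hk) (Over.homMk (pullback.lift v z hv) (pullback.lift_snd v z hv))
  refine ⟨r.left ≫ pullback.fst H'.hom p₁, ?_, ?_⟩
  · rw [Category.assoc, pullback.condition, ← Category.assoc,
      show r.left ≫ pullback.snd H'.hom p₁ = z from Over.w r]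
  · have e : (r.left ≫ (incl j' p₁ h₁).left) ≫ pullback.fst G.hom c =
        (pullback.lift v z hv ≫ (incl j' p₀ h₀).left) ≫ pullback.fst G.hom c :=
      congrArg (fun k => CommaMorphism.left k ≫ pullback.fst G.hom c) hr
    rw [Category.assoc, Category.assoc, incl_fst, incl_fst] at e
    rw [Category.assoc]
    exact e.trans (pullback.lift_fst_assoc v z hv _)

/-- Points of the subgroup move along the covering. -/
theorem exists_move (hH' : SGA3x.IsMultTypeFT H') [IsSeparated G.hom] [LocallyOfFiniteType G.hom]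
    [GeometricallyConnected π] [Flat π] [Surjective π] (j' : H' ⟶ Red.bc π G) [IsMonHom j'] [Mono j']
    (hc : ∀ (X : Over S') (g : X ⟶ Red.bc π G) (h : X ⟶ H'), g * (h ≫ j') = (h ≫ j') * g)
    {Y : Scheme.{u}} (x₀ x₁ : Y ⟶ S') (h : x₀ ≫ π = x₁ ≫ π) (v : Y ⟶ H'.left) (hv : v ≫ H'.hom = x₀) :
    ∃ w : Y ⟶ H'.left, w ≫ H'.hom = x₁ ∧
      w ≫ j'.left ≫ pullback.fst G.hom π = v ≫ j'.left ≫ pullback.fst G.hom π := by
  let T := pullback π π
  let c : T ⟶ S := pullback.fst π π ≫ π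
  let p₀ := pullback.fst π π
  let p₁ := pullback.snd π π
  have h₁ : p₁ ≫ π = c := pullback.condition.symm
  let i₀ := incl j' p₀ (rfl : p₀ ≫ π = c)
  let i₁ := incl j' p₁ h₁
  haveI : IsMonHom i₀ := isMonHom_incl _ _ _
  haveI : IsMonHom i₁ := isMonHom_incl _ _ _
  haveI : Mono i₁ := mono_incl _ _ _
  haveI : IsSeparated (Red.bc c G).hom := inferInstanceAs (IsSeparated (pullback.snd G.hom c))
  haveI : LocallyOfFiniteType (Red.bc c G).hom := inferInstanceAs (LocallyOfFiniteType (pullback.snd G.hom c))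
  obtain ⟨U, hUc, hU, hLe⟩ := MultKer.exists_le_clopen (HomDesc.isMultTypeFT_bc p₀ hH')
    (HomDesc.isMultTypeFT_bc p₁ hH') (Or.inr inferInstance) i₀ i₁
    (fun X a b => incl_central j' hc p₁ h₁ X (a ≫ i₀) b)
  have hdiag : ∀ s' : S', pullback.diagonal π s' ∈ U := fun s' => by
    refine (hU _).2 (le_incl_of_eq j' p₀ p₁ rfl h₁ _ ?_)
    let φ := (pullback.diagonal π).residueFieldMap s'
    haveI : IsIso φ := by
      rw [ConcreteCategory.isIso_iff_bijective]
      refine ⟨φ.hom.injective, fun y => ?_⟩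
      obtain ⟨z, rfl⟩ := S'.residue_surjective s' y
      obtain ⟨w, rfl⟩ := (pullback.diagonal π).stalkMap_surjective s' z
      exact ⟨(pullback.diagonalObj π).residue (pullback.diagonal π s') w,
        congrArg (fun f => f.hom w) (Scheme.residue_residueFieldMap (pullback.diagonal π) s')⟩
    have hfac : T.fromSpecResidueField (pullback.diagonal π s') =
        inv (Spec.map φ) ≫ S'.fromSpecResidueField s' ≫ pullback.diagonal π := by
      rw [IsIso.eq_inv_comp, Scheme.Hom.SpecMap_residueFieldMap_fromSpecResidueField]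
    exact (congrArg (· ≫ pullback.fst π π) hfac).trans
      (Eq.trans (by simp) (congrArg (· ≫ pullback.snd π π) hfac).symm)
  have huniv : (U : Set T) = Set.univ := Set.eq_univ_of_forall fun x => by
    haveI : GeometricallyConnected (pullback.fst π π) := inferInstance
    refine ((pullback.fst π π).isConnected_preimage_singleton (pullback.fst π π x)).isPreconnected.subset_isClopen
      ⟨hUc, U.2⟩ ⟨pullback.diagonal π (pullback.fst π π x), ?_, hdiag _⟩ rfl
    rw [Set.mem_preimage, Set.mem_singleton_iff, ← Scheme.Hom.comp_apply, pullback.diagonal_fst]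
    rfl
  obtain ⟨w, hw₁, hw₂⟩ := exists_of_le j' p₀ p₁ rfl h₁ hLe (pullback.lift x₀ x₁ h)
    (IsOpenImmersion.lift U.ι (pullback.lift x₀ x₁ h) fun y _ => U.range_ι.superset (huniv.superset (Set.mem_univ y)))
    (IsOpenImmersion.lift_fac _ _ _) v (hv.trans (pullback.lift_fst x₀ x₁ h).symm)
  exact ⟨w, hw₁.trans (pullback.lift_snd x₀ x₁ h), hw₂⟩

/-- Descent of central subgroups of multiplicative type. -/
theorem exists_descend (hH' : SGA3x.IsMultTypeFT H') [IsSeparated G.hom] [LocallyOfFiniteType G.hom]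
    [Flat π] [Surjective π]
    (hcov : ∀ V : S.Opens, IsAffineOpen V → ∃ W : S'.Opens, IsCompact (W : Set S') ∧ π.base '' (W : Set S') = (V : Set S))
    (hconn : ∀ s : S, ConnectedSpace ↥(pullback π (Red.geomPt s)))
    (j' : H' ⟶ Red.bc π G) [IsMonHom j'] [IsImmersion j'.left]
    (hc : ∀ (X : Over S') (g : X ⟶ Red.bc π G) (h : X ⟶ H'), g * (h ≫ j') = (h ≫ j') * g) :
    ∃ (H : Over S) (_ : GrpObj H) (j : H ⟶ G), IsMonHom j ∧ IsImmersion j.left ∧ SGA3x.IsMultTypeFT H ∧
      ∃ φ : Red.bc π H ≅ H', φ.hom ≫ j' = (Over.pullback π).map j := by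
  haveI := HomDesc.geometricallyConnected_of_geomPt π hconn
  haveI := isFpqc_of_hcov π hcov
  haveI : Mono j'.left := inferInstance
  haveI : Mono j' := Over.mono_of_mono_left j'
  let m : H'.left ⟶ G.left := j'.left ≫ pullback.fst G.hom π
  have huniq : ∀ {Y : Scheme.{u}} (w w' : Y ⟶ H'.left), w ≫ H'.hom = w' ≫ H'.hom → w ≫ m = w' ≫ m → w = w' := by
    intro Y w w' h1 h2
    rw [← cancel_mono j'.left]
    apply pullback.hom_ext
    · simpa [m, Category.assoc] using h2
    · rw [Category.assoc, Category.assoc, show j'.left ≫ pullback.snd G.hom π = H'.hom from Over.w j']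
      exact h1
  choose f hf₁ hf₂ using fun {Y : Scheme.{u}} (x₀ x₁ : Y ⟶ S') (h : x₀ ≫ π = x₁ ≫ π)
    (v : _root_.Desc.Lifts H' x₀) => exists_move hH' j' hc x₀ x₁ h v.1 v.2
  have hext : ∀ {Y : Scheme.{u}} {x : Y ⟶ S'} (v v' : _root_.Desc.Lifts H' x), v.1 ≫ m = v'.1 ≫ m → v = v' :=
    fun v v' h => Subtype.ext (huniq _ _ (v.2.trans v'.2.symm) h)
  let D : _root_.Desc.SchDD π :=
    { obj := H'
      φ := fun Y x₀ x₁ h =>
        { toFun := fun v => ⟨f x₀ x₁ h v, hf₁ x₀ x₁ h v⟩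
          invFun := fun v => ⟨f x₁ x₀ h.symm v, hf₁ x₁ x₀ h.symm v⟩
          left_inv := fun v => hext _ _ ((hf₂ x₁ x₀ h.symm _).trans (hf₂ x₀ x₁ h v))
          right_inv := fun v => hext _ _ ((hf₂ x₀ x₁ h _).trans (hf₂ x₁ x₀ h.symm v)) }
      φ_natural := fun Y Y' g x₀ x₁ h h' v v' e => by
        show f (g ≫ x₀) (g ≫ x₁) h' v' = g ≫ f x₀ x₁ h v
        refine huniq _ _ ((hf₁ _ _ _ _).trans ((congrArg (g ≫ ·) (hf₁ x₀ x₁ h v)).symm.trans
          (Category.assoc _ _ _).symm)) ?_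
        refine (hf₂ _ _ _ _).trans ?_
        rw [e, Category.assoc, Category.assoc]
        exact congrArg (g ≫ ·) (hf₂ x₀ x₁ h v).symm
      φ_self := fun Y x v => hext _ _ (hf₂ x x rfl v)
      φ_comp := fun Y x₀ x₁ x₂ h h' v =>
        hext _ _ ((hf₂ x₁ x₂ h' _).trans ((hf₂ x₀ x₁ h v).trans (hf₂ x₀ x₂ (h.trans h') v).symm)) }
  haveI : IsAffineHom H'.hom := isAffineHom_of_isMultTypeLoc (WeilClosedLib.IsMultTypeLoc.of_isMultTypeFT hH')
  obtain ⟨Q⟩ := SchDesc.quot_top_of_affine @IsAffineHom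
    (fun f g hf => MorphismProperty.pullback_snd (P := @IsAffineHom) f g hf) D ‹IsAffineHom H'.hom›
    fun Q U l q i hQ hU hl hl' _ _ _ _ D' hD' => by
      haveI : IsAffine D'.obj.left := isAffine_of_isAffineHom D'.obj.hom
      exact SchDesc.quot_of_quasiAffine D'
  let H : Over S := Over.mk Q.str
  let q : H'.left ⟶ Q.U := Q.π₀
  have hsq : IsPullback H'.hom q π Q.str := Q.isPullback₀
  haveI : SchDesc.IsFpqc q := SchDesc.IsFpqc.of_isPullback hsq
  have hqm : ∀ {Y : Scheme.{u}} (a b : Y ⟶ H'.left), a ≫ q = b ≫ q → a ≫ m = b ≫ m := fun {Y} a b e => by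
    have h : a ≫ H'.hom ≫ π = (b ≫ H'.hom) ≫ π := by
      rw [hsq.w, Category.assoc, hsq.w, reassoc_of% e]
    have hb : SchDesc.move D a (b ≫ H'.hom) h = b := by
      apply hsq.hom_ext
      · exact SchDesc.move_hom D a _ h
      · exact (Q.inv₀ a _ h).trans e
    have h2 : SchDesc.move D a (b ≫ H'.hom) h ≫ m = a ≫ m := by
      have hh : (a ≫ H'.hom) ≫ π = (b ≫ H'.hom) ≫ π := (Category.assoc _ _ _).trans h
      rw [← SchDesc.φ_eq_move (D := D) (a ≫ H'.hom) (b ≫ H'.hom) hh ⟨a, rfl⟩]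
      exact hf₂ _ _ _ _
    rw [hb] at h2
    exact h2.symm
  obtain ⟨j₀, hj₀, -⟩ : ∃ j₀ : Q.U ⟶ G.left, q ≫ j₀ = m ∧ True :=
    ⟨EffectiveEpi.desc q m fun a b e => hqm a b e, EffectiveEpi.fac _ _ _, trivial⟩
  have hj : j₀ ≫ G.hom = Q.str := (cancel_epi q).1 (by
    rw [reassoc_of% hj₀, ← hsq.w]
    show (j'.left ≫ pullback.fst G.hom π) ≫ G.hom = _
    rw [Category.assoc, pullback.condition, ← Category.assoc,
      show j'.left ≫ pullback.snd G.hom π = H'.hom from Over.w j'])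
  let j : H ⟶ G := Over.homMk j₀ hj
  have hsqj : IsPullback q j'.left j₀ (pullback.fst G.hom π) := by
    refine IsPullback.of_bot ?_ hj₀ (IsPullback.of_hasPullback G.hom π).flip.flip
    rw [hj, show j'.left ≫ pullback.snd G.hom π = H'.hom from Over.w j']
    exact hsq.flip
  haveI : IsImmersion j₀ := by
    haveI : SchDesc.IsFpqc (pullback.fst G.hom π) :=
      SchDesc.IsFpqc.of_isPullback (IsPullback.of_hasPullback G.hom π).flip
    have hq' : QuasiCompact j'.left := by
      haveI : IsSeparated (pullback.snd G.hom π) := inferInstance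
      haveI : QuasiCompact (j'.left ≫ pullback.snd G.hom π) := by
        rw [show j'.left ≫ pullback.snd G.hom π = H'.hom from Over.w j']; infer_instance
      exact QuasiCompact.of_comp j'.left (pullback.snd G.hom π)
    refine (TorsorDesc.prop_of_isFpqc (@IsImmersion ⊓ @QuasiCompact) ASp.qcImmersion_descends j₀
      (pullback.fst G.hom π) ?_).1
    rw [← hsqj.isoPullback_inv_snd]
    exact (MorphismProperty.cancel_left_of_respectsIso (P := @IsImmersion ⊓ @QuasiCompact) _ _).2 ⟨‹_›, hq'⟩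
  let φ : Red.bc π H ≅ H' := Over.isoMk hsq.flip.isoPullback.symm (hsq.flip.isoPullback_inv_snd)
  have hφ : φ.hom ≫ j' = (Over.pullback π).map j := by
    ext
    apply pullback.hom_ext
    · rw [ActBC.pullback_map_left_fst]
      show (hsq.flip.isoPullback.inv ≫ j'.left) ≫ _ = pullback.fst Q.str π ≫ j₀
      rw [Category.assoc, show j'.left ≫ pullback.fst G.hom π = q ≫ j₀ from hj₀.symm]
      exact hsq.flip.isoPullback_inv_fst_assoc _
    · exact (Over.w (φ.hom ≫ j')).trans (Over.w ((Over.pullback π).map j)).symm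
  haveI : Mono j.left := inferInstanceAs (Mono j₀)
  obtain ⟨hG, hjm, hφm⟩ := exists_grpObj j j' φ hφ
  letI := hG
  exact ⟨H, hG, j, hjm, inferInstanceAs (IsImmersion j₀), isMultTypeFT_of_bc π hcov (Grp.mkIso' φ) hH', φ, hφ⟩

end Groth.Agent.SubDesc
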